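import Mathlib

/-!
A subgroup `P` meeting `g⁻¹ P g` in a normal subgroup of prime index `p` of the latter, with no nontrivial
normal subgroup of `P` normalised by `g`: generators `x i` (`i : ℤ`) shifted by `g`, and the bound
`2 * t ≤ 3 * u` on the length `t` in terms of the commuting distance `u`.
-/

namespace CfsgLib.SimsInterval

open Subgroup
open scoped Pointwise

variable {G : Type*} [Group G]

/-- The hypothesis. -/
structure Data (P : Subgroup G) (g : G) (p : ℕ) : Prop where
  prime : p.Prime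
  normal : ((P ⊓ MulAut.conj g⁻¹ • P).subgroupOf (MulAut.conj g⁻¹ • P)).Normal
  index : (P ⊓ MulAut.conj g⁻¹ • P).relIndex (MulAut.conj g⁻¹ • P) = p
  free : ∀ Q : Subgroup G, Q ≤ P → (Q.subgroupOf P).Normal → MulAut.conj g • Q = Q → Q = ⊥

/-- Conjugation by `g⁻¹`. -/
abbrev shiftHom (g : G) : G →* G := (MulAut.conj g⁻¹).toMonoidHom

/-- Conjugation by `g`. -/
abbrev backHom (g : G) : G →* G := (MulAut.conj g).toMonoidHom

theorem back_shift (g y : G) : backHom g (shiftHom g y) = y := by
  simp [mul_assoc]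

theorem shift_back (g y : G) : shiftHom g (backHom g y) = y := by
  simp [mul_assoc]

theorem map_back_shift (g : G) (A : Subgroup G) : (A.map (shiftHom g)).map (backHom g) = A := by
  rw [Subgroup.map_map]
  convert A.map_id
  ext y; exact back_shift g y

theorem map_shift_back (g : G) (A : Subgroup G) : (A.map (backHom g)).map (shiftHom g) = A := by
  rw [Subgroup.map_map]
  convert A.map_id
  ext y; exact shift_back g y

variable [Finite G] {P : Subgroup G} {g : G} {p : ℕ}

theorem Data.top_index (h : Data P g p) :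
    (P ⊓ P.map (backHom g)).relIndex P = p ∧ ((P ⊓ P.map (backHom g)).subgroupOf P).Normal := by
  have e : (P ⊓ P.map (shiftHom g)).map (backHom g) = P ⊓ P.map (backHom g) := by
    rw [Subgroup.map_inf _ _ _ (MulAut.conj g).injective, map_back_shift, inf_comm]
  constructor
  · have h1 : (P ⊓ P.map (shiftHom g)).relIndex (P.map (shiftHom g)) = p := h.index
    rwa [← Subgroup.relIndex_map_map_of_injective _ _ (f := backHom g) (MulAut.conj g).injective, e,
      map_back_shift] at h1
  · rw [normal_subgroupOf_iff inf_le_left]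
    intro a b ha hb
    have h1 : ((P ⊓ P.map (shiftHom g)).subgroupOf (P.map (shiftHom g))).Normal := h.normal
    rw [normal_subgroupOf_iff inf_le_right] at h1
    rw [← e] at ha ⊢
    obtain ⟨a', ha', rfl⟩ := ha
    refine ⟨_, h1 a' (shiftHom g b) ha' (mem_map_of_mem _ hb), ?_⟩
    rw [map_mul, map_mul, map_inv, back_shift]

theorem Data.isPGroup (h : Data P g p) : IsPGroup p P := by
  classical
  have : Fact p.Prime := ⟨h.prime⟩
  obtain ⟨hidx, hnorm⟩ := h.top_index
  set D : Set G := {y | y ∈ P ∧ ¬ p ∣ orderOf y} with hD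
  have hDH : ∀ y ∈ D, y ∈ P.map (backHom g) := by
    intro y hy
    have hq : (QuotientGroup.mk (⟨y, hy.1⟩ : P) : P ⧸ (P ⊓ P.map (backHom g)).subgroupOf P) = 1 := by
      rw [← orderOf_eq_one_iff]
      have h1 : orderOf (QuotientGroup.mk (⟨y, hy.1⟩ : P) : P ⧸ (P ⊓ P.map (backHom g)).subgroupOf P) ∣ orderOf y := by
        exact (orderOf_map_dvd (QuotientGroup.mk' _) _).trans (Subgroup.orderOf_mk y hy.1).dvd
      have h2 : orderOf (QuotientGroup.mk (⟨y, hy.1⟩ : P) : P ⧸ (P ⊓ P.map (backHom g)).subgroupOf P) ∣ p := by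
        refine (_root_.orderOf_dvd_natCard _).trans ?_
        rw [← hidx]; exact dvd_rfl
      rcases (Nat.dvd_prime h.prime).mp h2 with e | e
      · exact e
      · exact absurd (e ▸ h1) hy.2
    exact ((QuotientGroup.eq_one_iff (⟨y, hy.1⟩ : P)).mp hq).2
  have hshift : shiftHom g '' D ⊆ D := by
    rintro _ ⟨y, hy, rfl⟩
    obtain ⟨y', hy', rfl⟩ := hDH y hy
    refine ⟨by rw [shift_back]; exact hy', ?_⟩
    rw [orderOf_injective (shiftHom g) (MulAut.conj g⁻¹).injective]
    exact hy.2
  have hshift_eq : shiftHom g '' D = D :=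
    Set.eq_of_subset_of_ncard_le hshift (Set.ncard_image_of_injective _ (f := shiftHom g) (MulAut.conj g⁻¹).injective).ge (Set.toFinite _)
  have hN : closure D = ⊥ := by
    refine h.free _ ((closure_le _).mpr fun y hy => hy.1) ?_ ?_
    · rw [normal_subgroupOf_iff_le_normalizer ((closure_le _).mpr fun y hy => hy.1)]
      have key : ∀ z ∈ P, ∀ w ∈ closure D, z * w * z⁻¹ ∈ closure D := by
        intro z hz w hw
        have hmap : (closure D).map (MulAut.conj z).toMonoidHom ≤ closure D := by
          rw [MonoidHom.map_closure, closure_le]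
          rintro _ ⟨y, hy, rfl⟩
          refine subset_closure ⟨mul_mem (mul_mem hz hy.1) (inv_mem hz), ?_⟩
          rw [orderOf_injective (MulAut.conj z).toMonoidHom (MulAut.conj z).injective]
          exact hy.2
        exact hmap ⟨w, hw, rfl⟩
      intro z hz
      rw [mem_normalizer_iff]
      intro w
      refine ⟨key z hz w, fun hw => ?_⟩
      have := key z⁻¹ (inv_mem hz) _ hw
      simpa [mul_assoc] using this
    · show (closure D).map (backHom g) = closure D
      conv_lhs => rw [← hshift_eq]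
      rw [← MonoidHom.map_closure, map_back_shift]
  refine IsPGroup.of_card (n := (Nat.card P).primeFactorsList.length)
    (Nat.eq_prime_pow_of_unique_prime_dvd Nat.card_pos.ne' fun {r} hr hrd => ?_)
  by_contra hrp
  have : Fact r.Prime := ⟨hr⟩
  obtain ⟨⟨y, hy⟩, hyo⟩ := exists_prime_orderOf_dvd_card' r hrd
  rw [Subgroup.orderOf_mk] at hyo
  have hyD : y ∈ D := ⟨hy, by rw [hyo]; exact fun hd => hrp ((Nat.prime_dvd_prime_iff_eq h.prime hr).mp hd).symm⟩
  have : y = 1 := mem_bot.mp (hN ▸ subset_closure hyD)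
  rw [this, orderOf_one] at hyo
  exact hr.ne_one hyo.symm

/-- `P ∩ gPg⁻¹ ∩ ⋯ ∩ gʲPg⁻ʲ`. -/
def tower (P : Subgroup G) (g : G) : ℕ → Subgroup G
  | 0 => P
  | j + 1 => P ⊓ (tower P g j).map (backHom g)

/-- `g⁻ⁱ x gⁱ`. -/
def gen (g x : G) (i : ℤ) : G := g ^ (-i) * x * g ^ i

/-- The subgroup generated by `gen g x i`, `a ≤ i < b`. -/
def itv (g x : G) (a b : ℤ) : Subgroup G := closure (gen g x '' Set.Ico a b)

omit [Finite G] in
theorem shiftHom_gen (g x : G) (i : ℤ) : shiftHom g (gen g x i) = gen g x (i + 1) := by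
  simp only [gen, MulEquiv.coe_toMonoidHom, MulAut.conj_apply, inv_inv]
  group

omit [Finite G] in
theorem map_shift_itv (g x : G) (a b : ℤ) : (itv g x a b).map (shiftHom g) = itv g x (a + 1) (b + 1) := by
  rw [itv, itv, MonoidHom.map_closure, ← Set.image_comp, show shiftHom g ∘ gen g x = gen g x ∘ (fun i => i + 1) from
    funext fun i => shiftHom_gen g x i, Set.image_comp, Set.image_add_const_Ico]

omit [Finite G] in
theorem gen_mem_itv {g x : G} {a b i : ℤ} (ha : a ≤ i) (hb : i < b) : gen g x i ∈ itv g x a b :=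
  subset_closure ⟨i, ⟨ha, hb⟩, rfl⟩

omit [Finite G] in
theorem itv_mono {g x : G} {a b a' b' : ℤ} (ha : a' ≤ a) (hb : b ≤ b') : itv g x a b ≤ itv g x a' b' :=
  closure_mono (Set.image_mono (Set.Ico_subset_Ico ha hb))

omit [Finite G] in
theorem itv_self (g x : G) (a : ℤ) : itv g x a a = ⊥ := by simp [itv]

omit [Finite G] in
theorem itv_sup {g x : G} {a b c : ℤ} (h1 : a ≤ b) (h2 : b ≤ c) : itv g x a b ⊔ itv g x b c = itv g x a c := by
  rw [itv, itv, itv, ← Subgroup.closure_union, ← Set.image_union, Set.Ico_union_Ico_eq_Ico h1 h2]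

theorem sup_eq_of_prime_index {A B : Subgroup G} (hAB : A ≤ B) {p : ℕ} (hp : p.Prime) (hidx : A.relIndex B = p)
    {C : Subgroup G} (hC : C ≤ B) (hCA : ¬ C ≤ A) : A ⊔ C = B := by
  refine le_antisymm (sup_le hAB hC) ?_
  have h1 := Subgroup.relIndex_mul_relIndex A (A ⊔ C) B le_sup_left (sup_le hAB hC)
  rw [hidx] at h1
  rcases (Nat.dvd_prime hp).mp ⟨_, h1.symm⟩ with e | e
  · exact absurd (le_sup_right.trans (relIndex_eq_one.mp e)) hCA
  · refine relIndex_eq_one.mp ?_
    rw [e] at h1
    exact Nat.eq_of_mul_eq_mul_left hp.pos (h1.trans (mul_one p).symm)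

theorem exists_generators (h : Data P g p) : ∃ x : G, ∃ m : ℕ, 1 ≤ m ∧ P = itv g x 0 m ∧
    ∀ k : ℕ, k ≤ m → Nat.card (itv g x 0 k) = p ^ k := by
  classical
  have hpp := h.prime
  have hP := h.isPGroup
  have : Fact p.Prime := ⟨hpp⟩
  set Q := tower P g with hQ
  have hsucc : ∀ j, Q (j + 1) ≤ Q j := by
    intro j
    induction j with
    | zero => exact inf_le_left
    | succ j ih => exact inf_le_inf_left _ (Subgroup.map_mono ih)
  have hleP : ∀ j, Q j ≤ P := fun j => by cases j with
    | zero => exact le_rfl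
    | succ j => exact inf_le_left
  have hle : ∀ j, (Q (j + 1)).relIndex (Q j) ≤ p := by
    intro j
    induction j with
    | zero => exact h.top_index.1.le
    | succ j ih =>
      have e : Q (j + 2) = (Q (j + 1)).map (backHom g) ⊓ Q (j + 1) := by
        show P ⊓ (Q (j + 1)).map (backHom g) = _ ⊓ (P ⊓ (Q j).map (backHom g))
        rw [inf_comm P ((Q j).map _), ← inf_assoc, inf_eq_left.mpr (Subgroup.map_mono (hsucc j)), inf_comm]
      rw [e, inf_relIndex_right]
      refine le_trans (relIndex_le_of_le_right (show Q (j + 1) ≤ (Q j).map (backHom g) from inf_le_right)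
        (fun h0 => ?_)) ?_
      · exact Subgroup.index_ne_zero_of_finite h0
      · rw [Subgroup.relIndex_map_map_of_injective _ _ (MulAut.conj g).injective]; exact ih
  have hdich : ∀ j, Q (j + 1) = Q j ∨ (Q (j + 1)).relIndex (Q j) = p := by
    intro j
    have hd : (Q (j + 1)).relIndex (Q j) ∣ Nat.card (Q j) := relIndex_dvd_card _ _
    obtain ⟨n, hn⟩ := IsPGroup.iff_card.mp (hP.to_le (hleP j))
    rw [hn] at hd
    obtain ⟨i, -, hi⟩ := (Nat.dvd_prime_pow hpp).mp hd
    rcases Nat.lt_or_ge i 2 with hi2 | hi2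
    · interval_cases i
      · exact Or.inl (le_antisymm (hsucc j) (relIndex_eq_one.mp (by rw [hi, pow_zero])))
      · exact Or.inr (by rw [hi, pow_one])
    · have := hle j
      rw [hi] at this
      have : p ^ 2 ≤ p ^ i := Nat.pow_le_pow_right hpp.pos hi2
      have := hpp.two_le
      nlinarith
  have hex : ∃ m, Q (m + 1) = Q m := by
    by_contra hne
    push Not at hne
    have : ∀ j, Nat.card (Q j) + j ≤ Nat.card P := by
      intro j
      induction j with
      | zero => exact le_rfl
      | succ j ih =>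
        have : Nat.card (Q (j + 1)) < Nat.card (Q j) :=
          lt_of_le_of_ne (Subgroup.card_le_of_le (hsucc j)) fun e => hne j (Subgroup.eq_of_le_of_card_ge (hsucc j) e.ge)
        omega
    have := this (Nat.card P + 1)
    omega
  set m := Nat.find hex with hm
  have hstab : Q (m + 1) = Q m := Nat.find_spec hex
  have hbelow : ∀ j, j < m → (Q (j + 1)).relIndex (Q j) = p := fun j hj =>
    (hdich j).resolve_left (Nat.find_min hex hj)
  have hinv : ∀ j, (Q j).map (backHom g) = Q j → Q (j + 1) = Q j := by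
    intro j hj
    show P ⊓ (Q j).map (backHom g) = Q j
    rw [hj]; exact inf_eq_right.mpr (hleP j)
  set N := Q m with hN
  have hNinv : N.map (backHom g) = N := by
    refine (Subgroup.eq_of_le_of_card_ge (hstab.symm.le.trans inf_le_right) ?_).symm
    rw [Nat.card_congr (N.equivMapOfInjective _ (MulAut.conj g).injective).toEquiv.symm]
  have hNinv' : N.map (shiftHom g) = N := by conv_lhs => rw [← hNinv, map_shift_back]
  have hm1 : 1 ≤ m := by
    rw [Nat.one_le_iff_ne_zero]
    intro h0
    have := h.top_index.1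
    rw [show P ⊓ P.map (backHom g) = Q 1 from rfl, show Q 1 = Q 0 by have e := hstab; rw [hN, h0] at e; exact e, show Q 0 = P from rfl, relIndex_self] at this
    exact hpp.ne_one this.symm
  obtain ⟨x, hx, hxN⟩ : ∃ x ∈ Q (m - 1), x ∉ N := by
    by_contra hall
    push Not at hall
    have := hbelow (m - 1) (by omega)
    rw [Nat.sub_add_cancel hm1, relIndex_eq_one.mpr (fun y hy => hall y hy)] at this
    exact hpp.ne_one this.symm
  have hgen : ∀ i : ℕ, i < m → Q (m - 1 - i) = N ⊔ itv g x 0 (i + 1 : ℕ) := by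
    intro i hi
    induction i with
    | zero =>
      rw [Nat.sub_zero]
      have hgx : gen g x 0 = x := by simp [gen]
      refine (sup_eq_of_prime_index (A := N) ?_ hpp ?_ ?_ ?_).symm
      · have := hsucc (m - 1); rwa [Nat.sub_add_cancel hm1] at this
      · have := hbelow (m - 1) (by omega); rwa [Nat.sub_add_cancel hm1] at this
      · rw [itv, closure_le]
        rintro _ ⟨j, ⟨h1, h2⟩, rfl⟩
        obtain rfl : j = 0 := by omega
        rw [hgx]; exact hx
      · intro hle'; exact hxN (hgx ▸ hle' (gen_mem_itv le_rfl (by norm_num)))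
    | succ i ih =>
      have ihh := ih (by omega)
      set j := m - 1 - (i + 1) with hj
      have hj1 : m - 1 - i = j + 1 := by omega
      rw [hj1] at ihh
      have himg : (Q (j + 1)).map (shiftHom g) ≤ Q j := by
        show (P ⊓ (Q j).map (backHom g)).map (shiftHom g) ≤ Q j
        exact (Subgroup.map_mono inf_le_right).trans (map_shift_back g _).le
      have hnot : ¬ (Q (j + 1)).map (shiftHom g) ≤ Q (j + 1) := by
        intro hle'
        have e := Subgroup.eq_of_le_of_card_ge hle' (by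
          rw [Nat.card_congr ((Q (j + 1)).equivMapOfInjective _ (MulAut.conj g⁻¹).injective).toEquiv.symm])
        exact Nat.find_min hex (show j + 1 < m by omega) (hinv _ (by conv_lhs => rw [← e, map_back_shift]))
      have hs := sup_eq_of_prime_index (hsucc j) hpp (hbelow j (by omega)) himg hnot
      rw [← hs, ihh, Subgroup.map_sup, hNinv', map_shift_itv, sup_sup_sup_comm, sup_idem]
      congr 1
      refine le_antisymm (sup_le (itv_mono le_rfl (by push_cast; omega)) (itv_mono (by omega) (by push_cast; omega))) ?_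
      rw [← itv_sup (b := (1 : ℤ)) (by omega) (by push_cast; omega)]
      exact sup_le_sup (itv_mono le_rfl (by push_cast; omega)) (itv_mono (by omega) (by push_cast; omega))
  have hPgen : P = N ⊔ itv g x 0 m := by
    have := hgen (m - 1) (by omega)
    rw [Nat.sub_self, Nat.sub_add_cancel hm1] at this
    exact this
  have hNN : N = ⊥ := by
    have hxn : x ∈ normalizer (N : Set G) := by
      have h1 : N ≤ Q (m - 1) := by have := hsucc (m - 1); rwa [Nat.sub_add_cancel hm1] at this
      obtain ⟨n, hn⟩ := IsPGroup.iff_card.mp (hP.to_le (hleP (m - 1)))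
      have hnn : (N.subgroupOf (Q (m - 1))).Normal := by
        refine normal_of_index_eq_minFac_card ?_
        have h2 := hbelow (m - 1) (by omega)
        rw [Nat.sub_add_cancel hm1] at h2
        have hn0 : n ≠ 0 := fun h0 => by
          rw [h0, pow_zero] at hn
          exact hxN ((Subgroup.card_eq_one.mp hn ▸ hx : x ∈ (⊥ : Subgroup G)) |> fun hb => (mem_bot.mp hb) ▸ one_mem N)
        rw [show (N.subgroupOf (Q (m - 1))).index = p from h2, hn, Nat.pow_minFac hn0, hpp.minFac_eq]
      exact (normal_subgroupOf_iff_le_normalizer h1).mp hnn hx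
    have hgn : g ∈ normalizer (N : Set G) := by
      rw [mem_normalizer_iff]
      intro w
      constructor
      · intro hw; rw [← hNinv]; exact ⟨w, hw, rfl⟩
      · intro hw
        rw [← hNinv] at hw
        obtain ⟨w', hw', e⟩ := hw
        rwa [show w = w' from (MulAut.conj g).injective e.symm]
    refine h.free N (hleP m) ?_ hNinv
    rw [normal_subgroupOf_iff_le_normalizer (hleP m), hPgen, sup_le_iff, itv, closure_le]
    refine ⟨le_normalizer, ?_⟩
    rintro _ ⟨i, -, rfl⟩
    exact mul_mem (mul_mem (Subgroup.zpow_mem _ hgn _) hxn) (Subgroup.zpow_mem _ hgn _)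
  refine ⟨x, m, hm1, by rw [hPgen, hNN, bot_sup_eq], fun k hk => ?_⟩
  induction k with
  | zero => rw [Nat.cast_zero, itv_self, pow_zero, Subgroup.card_bot]
  | succ k ih =>
    have h1 := hgen k (by omega)
    rw [hNN, bot_sup_eq] at h1
    have h2 : Q (m - k) = itv g x 0 k := by
      rcases Nat.eq_zero_or_pos k with rfl | hk0
      · rw [Nat.sub_zero, ← hN, hNN, Nat.cast_zero, itv_self]
      · have := hgen (k - 1) (by omega)
        rw [hNN, bot_sup_eq, Nat.sub_add_cancel hk0, show m - 1 - (k - 1) = m - k by omega] at this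
        exact this
    have hc := ih (by omega)
    have h4 := hbelow (m - 1 - k) (by omega)
    rw [show m - 1 - k + 1 = m - k by omega, h2, h1] at h4
    have h3 := Subgroup.relIndex_mul_relIndex ⊥ (itv g x 0 k) (itv g x 0 (k + 1 : ℕ)) bot_le
      (itv_mono le_rfl (by push_cast; omega))
    rw [relIndex_bot_left, relIndex_bot_left, hc, h4] at h3
    rw [← h3, pow_succ]

omit [Finite G] in
theorem map_shift_pow_itv (g x : G) (a b : ℤ) (k : ℕ) :
    Nat.card (itv g x (a + k) (b + k)) = Nat.card (itv g x a b) := by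
  induction k with
  | zero => simp
  | succ k ih =>
    rw [← ih, show a + ((k + 1 : ℕ) : ℤ) = a + k + 1 by push_cast; ring,
      show b + ((k + 1 : ℕ) : ℤ) = b + k + 1 by push_cast; ring, ← map_shift_itv]
    exact (Nat.card_congr (Subgroup.equivMapOfInjective _ _ (MulAut.conj g⁻¹).injective).toEquiv).symm

section Comm

variable {x : G} {m : ℕ} [Fact p.Prime]

theorem card_itv (hc : ∀ k : ℕ, k ≤ m → Nat.card (itv g x 0 k) = p ^ k) {a b : ℤ} (hab : a ≤ b) (hm : b - a ≤ m) :
    Nat.card (itv g x a b) = p ^ (b - a).toNat := by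
  obtain ⟨k, rfl⟩ : ∃ k : ℕ, b = a + k := ⟨(b - a).toNat, by omega⟩
  rw [show (a + (k : ℤ) - a).toNat = k by omega, ← hc k (by omega)]
  rcases le_total 0 a with ha | ha
  · have := map_shift_pow_itv g x 0 k a.toNat
    rwa [Int.toNat_of_nonneg ha, zero_add, add_comm (k : ℤ) a] at this
  · have := map_shift_pow_itv g x a (a + k) (-a).toNat
    rw [Int.toNat_of_nonneg (by omega), add_neg_cancel, show a + k + -a = (k : ℤ) by ring] at this
    exact this.symm

theorem isPGroup_itv (hc : ∀ k : ℕ, k ≤ m → Nat.card (itv g x 0 k) = p ^ k) {a b : ℤ} (hab : a ≤ b) (hm : b - a ≤ m) :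
    IsPGroup p (itv g x a b) := IsPGroup.of_card (card_itv hc hab hm)

theorem itv_normal (hc : ∀ k : ℕ, k ≤ m → Nat.card (itv g x 0 k) = p ^ k) {a b a' b' : ℤ} (ha : a ≤ a') (hb : b' ≤ b)
    (hab : a' ≤ b') (hlen : (b - a) = (b' - a') + 1) (hm : b - a ≤ m) :
    itv g x a b ≤ normalizer (itv g x a' b' : Set G) := by
  have hp : p.Prime := Fact.out
  have h1 : itv g x a' b' ≤ itv g x a b := itv_mono ha hb
  refine (normal_subgroupOf_iff_le_normalizer h1).mp (normal_of_index_eq_minFac_card ?_)
  rw [card_itv hc (by omega) hm, Nat.pow_minFac (by omega), hp.minFac_eq]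
  have h3 := card_mul_index ((itv g x a' b').subgroupOf (itv g x a b))
  rw [Nat.card_congr (subgroupOfEquivOfLe h1).toEquiv, card_itv hc hab (by omega), card_itv hc (by omega) hm,
    show (b - a).toNat = (b' - a').toNat + 1 by omega, pow_succ] at h3
  exact Nat.eq_of_mul_eq_mul_left (pow_pos hp.pos _) h3

theorem commutator_mem (hc : ∀ k : ℕ, k ≤ m → Nat.card (itv g x 0 k) = p ^ k) {i j : ℤ} (hij : i < j) (hm : j - i < m)
    {s t : G} (hs : s ∈ zpowers (gen g x i)) (ht : t ∈ zpowers (gen g x j)) :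
    s * t * s⁻¹ * t⁻¹ ∈ itv g x (i + 1) j := by
  have hp : p.Prime := Fact.out
  set A := itv g x i j
  set B := itv g x (i + 1) (j + 1)
  set U := itv g x i (j + 1)
  have hsA : s ∈ A := zpowers_le.mpr (gen_mem_itv le_rfl hij) hs
  have htB : t ∈ B := zpowers_le.mpr (gen_mem_itv (by omega) (by omega)) ht
  have hA : U ≤ normalizer (A : Set G) := itv_normal hc le_rfl (by omega) hij.le (by omega) (by omega)
  have hB : U ≤ normalizer (B : Set G) := itv_normal hc (by omega) le_rfl (by omega) (by omega) (by omega)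
  have hmem : s * t * s⁻¹ * t⁻¹ ∈ A ⊓ B := by
    refine Subgroup.mem_inf.mpr ⟨?_, ?_⟩
    · rw [show s * t * s⁻¹ * t⁻¹ = s * (t * s⁻¹ * t⁻¹) by group]
      exact mul_mem hsA ((mem_normalizer_iff.mp (hA (itv_mono (by omega) le_rfl htB)) _).mp (inv_mem hsA))
    · exact mul_mem ((mem_normalizer_iff.mp (hB (itv_mono le_rfl (by omega) hsA)) _).mp htB) (inv_mem htB)
  suffices e : itv g x (i + 1) j = A ⊓ B by rwa [e]
  refine Subgroup.eq_of_le_of_card_ge (le_inf (itv_mono (by omega) le_rfl) (itv_mono le_rfl (by omega))) ?_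
  have hsmall : itv g x (i + 1) j ≤ A := itv_mono (by omega) le_rfl
  have hne : ¬ A ≤ B := by
    intro hle
    have : U ≤ B := by
      rw [show U = A ⊔ itv g x j (j + 1) from (itv_sup hij.le (by omega)).symm]
      exact sup_le hle (itv_mono (by omega) le_rfl)
    have := Subgroup.card_le_of_le this
    rw [card_itv hc (by omega) (by omega), card_itv hc (by omega) (by omega),
      show (j + 1 - i).toNat = (j + 1 - (i + 1)).toNat + 1 by omega, pow_succ] at this
    have := pow_pos hp.pos (j + 1 - (i + 1)).toNat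
    have := hp.two_le
    nlinarith
  obtain ⟨n, hn⟩ := IsPGroup.iff_card.mp ((isPGroup_itv hc hij.le (by omega)).to_le (inf_le_left : A ⊓ B ≤ A))
  have hlt : Nat.card (A ⊓ B : Subgroup G) < Nat.card A := lt_of_le_of_ne (Subgroup.card_le_of_le inf_le_left)
    fun e => hne (inf_eq_left.mp (Subgroup.eq_of_le_of_card_ge inf_le_left e.ge))
  rw [hn, card_itv hc hij.le (by omega)] at hlt
  rw [hn, card_itv hc (by omega) (by omega)]
  exact Nat.pow_le_pow_right hp.pos (by have := (Nat.pow_lt_pow_iff_right hp.one_lt).mp hlt; omega)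

omit [Finite G] [Fact p.Prime] in
theorem commute_shift {i j : ℤ} (k : ℤ) (h : Commute (gen g x i) (gen g x j)) :
    Commute (gen g x (i + k)) (gen g x (j + k)) := by
  have e : ∀ l, gen g x (l + k) = MulAut.conj (g ^ (-k)) (gen g x l) := fun l => by
    simp only [gen, MulAut.conj_apply]; group
  rw [e, e]; exact h.map (MulAut.conj (g ^ (-k))).toMonoidHom

theorem two_mul_le (hc : ∀ k : ℕ, k ≤ m → Nat.card (itv g x 0 k) = p ^ k) {u : ℕ} (hum : u < m)
    (hcomm : ∀ i j : ℤ, |i - j| < u → Commute (gen g x i) (gen g x j))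
    (hnc : ¬ Commute (gen g x 0) (gen g x u)) : 2 * m ≤ 3 * u := by
  classical
  have hp : p.Prime := Fact.out
  have hu0 : 0 < u := by
    rw [Nat.pos_iff_ne_zero]; rintro rfl
    exact hnc (by rw [Nat.cast_zero])
  set a₀ := gen g x 0
  set b₀ := gen g x u
  set w := a₀ * b₀ * a₀⁻¹ * b₀⁻¹ with hw
  have hw1 : w ≠ 1 := fun e => hnc (by
    rw [hw, mul_inv_eq_one, mul_inv_eq_iff_eq_mul] at e
    exact e)
  have hwmem : w ∈ itv g x 1 u := by
    simpa using commutator_mem hc (i := 0) (j := u) (by omega) (by omega) (mem_zpowers a₀) (mem_zpowers b₀)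
  have hcent : ∀ {z : G}, z * a₀ * z⁻¹ * (z * b₀ * z⁻¹) * (z * a₀ * z⁻¹)⁻¹ * (z * b₀ * z⁻¹)⁻¹ = w → Commute z w := by
    intro z hz
    have : z * w * z⁻¹ = w := by
      calc z * w * z⁻¹ = z * a₀ * z⁻¹ * (z * b₀ * z⁻¹) * (z * a₀ * z⁻¹)⁻¹ * (z * b₀ * z⁻¹)⁻¹ := by rw [hw]; group
        _ = w := hz
    exact mul_inv_eq_iff_eq_mul.mp this
  have hitv : ∀ {z : G} {lo hi : ℤ}, (∀ k, lo ≤ k → k < hi → Commute z (gen g x k)) →
      itv g x lo hi ≤ centralizer {z} := by
    intro z lo hi hh
    rw [itv, closure_le]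
    rintro _ ⟨k, ⟨h1, h2⟩, rfl⟩
    exact mem_centralizer_singleton_iff.mpr (hh k h1 h2).eq.symm
  -- right end
  let Pa : ℕ → Prop := fun a => 1 ≤ a ∧ w ∈ itv g x a u
  set a := Nat.findGreatest Pa u with ha
  have hPa : Pa a := Nat.findGreatest_spec (P := Pa) (m := 1) (by omega) ⟨le_rfl, hwmem⟩
  have hau : a < u := by
    refine lt_of_le_of_ne (Nat.findGreatest_le u) fun e => hw1 ?_
    have h1 := hPa.2
    rw [show a = u from e, itv_self] at h1
    exact mem_bot.mp h1
  have hanot : w ∉ itv g x ((a : ℤ) + 1) u := fun hmem =>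
    Nat.findGreatest_is_greatest (P := Pa) (n := u) (k := a + 1) (by omega) (by omega)
      ⟨by omega, by push_cast; exact hmem⟩
  have hma : m ≤ a + u := by
    by_contra hlt
    push Not at hlt
    set z := gen g x ((a : ℤ) + u) with hz
    have hzb : Commute z b₀ := hcomm _ _ (by rw [abs_lt]; omega)
    have hzw : Commute z w := by
      refine hcent ?_
      set c := a₀⁻¹ * (z * a₀ * z⁻¹) with hcdef
      have hcm : c ∈ itv g x (0 + 1) ((a : ℤ) + u) := by
        have := commutator_mem hc (i := 0) (j := (a : ℤ) + u) (by omega) (by omega)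
          (inv_mem (mem_zpowers a₀)) (mem_zpowers z)
        rwa [inv_inv, show a₀⁻¹ * z * a₀ * z⁻¹ = c by rw [hcdef]; group] at this
      have hcb : Commute c b₀ :=
        (mem_centralizer_singleton_iff.mp (hitv (z := b₀) (fun k h1 h2 => hcomm _ _ (by rw [abs_lt]; omega)) hcm))
      rw [show z * a₀ * z⁻¹ = a₀ * c by rw [hcdef]; group, show z * b₀ * z⁻¹ = b₀ from mul_inv_eq_iff_eq_mul.mpr hzb.eq,
        mul_inv_rev, show a₀ * c * b₀ * (c⁻¹ * a₀⁻¹) = a₀ * (c * b₀ * c⁻¹) * a₀⁻¹ by group,
        mul_inv_eq_iff_eq_mul.mpr hcb.eq]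
    have hC : itv g x a u ≤ centralizer {z} := by
      rw [← sup_eq_of_prime_index (A := itv g x ((a : ℤ) + 1) u) (C := zpowers w) (itv_mono (by omega) le_rfl) hp ?_
        (zpowers_le.mpr hPa.2) (fun h' => hanot (h' (mem_zpowers w)))]
      · exact sup_le (hitv fun k h1 h2 => hcomm _ _ (by rw [abs_lt]; omega))
          (zpowers_le.mpr (mem_centralizer_singleton_iff.mpr hzw.eq.symm))
      · have h1 : itv g x ((a : ℤ) + 1) u ≤ itv g x a u := itv_mono (by omega) le_rfl
        have h3 := card_mul_index ((itv g x ((a : ℤ) + 1) u).subgroupOf (itv g x a u))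
        rw [Nat.card_congr (subgroupOfEquivOfLe h1).toEquiv, card_itv hc (by omega) (by omega),
          card_itv hc (by omega) (by omega), show ((u : ℤ) - a).toNat = ((u : ℤ) - ((a : ℤ) + 1)).toNat + 1 by omega,
          pow_succ] at h3
        exact Nat.eq_of_mul_eq_mul_left (pow_pos hp.pos _) h3
    have h1 : Commute (gen g x a) z := mem_centralizer_singleton_iff.mp (hC (gen_mem_itv le_rfl (by omega)))
    have h2 := commute_shift (-(a : ℤ)) h1
    rw [add_neg_cancel, add_neg_cancel_comm] at h2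
    exact hnc h2
  -- left end
  have hexb : ∃ b : ℕ, w ∈ itv g x 1 ((b : ℤ) + 1) := ⟨u - 1, by rwa [show ((u - 1 : ℕ) : ℤ) + 1 = u by omega]⟩
  set b := Nat.find hexb with hb
  have hbu : b ≤ u - 1 := Nat.find_le (by rwa [show ((u - 1 : ℕ) : ℤ) + 1 = u by omega])
  have hbmem : w ∈ itv g x 1 ((b : ℤ) + 1) := Nat.find_spec hexb
  have hb1 : 1 ≤ b := by
    rw [Nat.one_le_iff_ne_zero]; intro e
    rw [e, Nat.cast_zero, zero_add, itv_self] at hbmem
    exact hw1 (mem_bot.mp hbmem)
  have hbnot : w ∉ itv g x 1 b := fun hmem =>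
    Nat.find_min hexb (show b - 1 < b by omega) (by rwa [show ((b - 1 : ℕ) : ℤ) + 1 = b by omega])
  have hmb : m + b ≤ 2 * u := by
    by_contra hlt
    push Not at hlt
    set z := gen g x ((b : ℤ) - u) with hz
    have hza : Commute z a₀ := hcomm _ _ (by rw [abs_lt]; omega)
    have hzw : Commute z w := by
      refine hcent ?_
      set c := b₀⁻¹ * (z * b₀ * z⁻¹) with hcdef
      have hcm : c ∈ itv g x ((b : ℤ) - u + 1) u := by
        have := inv_mem (commutator_mem hc (i := (b : ℤ) - u) (j := u) (by omega) (by omega)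
          (mem_zpowers z) (inv_mem (mem_zpowers b₀)))
        rwa [inv_inv, show (z * b₀⁻¹ * z⁻¹ * b₀)⁻¹ = c by rw [hcdef]; group] at this
      have hca : Commute c a₀ :=
        (mem_centralizer_singleton_iff.mp (hitv (z := a₀) (fun k h1 h2 => hcomm _ _ (by rw [abs_lt]; omega)) hcm))
      rw [show z * a₀ * z⁻¹ = a₀ from mul_inv_eq_iff_eq_mul.mpr hza.eq, show z * b₀ * z⁻¹ = b₀ * c by rw [hcdef]; group,
        mul_inv_rev, show a₀ * (b₀ * c) * a₀⁻¹ * (c⁻¹ * b₀⁻¹) = a₀ * b₀ * (c * a₀⁻¹ * c⁻¹) * b₀⁻¹ by group,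
        mul_inv_eq_iff_eq_mul.mpr hca.inv_right.eq]
    have hC : itv g x 1 ((b : ℤ) + 1) ≤ centralizer {z} := by
      rw [← sup_eq_of_prime_index (A := itv g x 1 b) (C := zpowers w) (itv_mono le_rfl (by omega)) hp ?_
        (zpowers_le.mpr hbmem) (fun h' => hbnot (h' (mem_zpowers w)))]
      · exact sup_le (hitv fun k h1 h2 => hcomm _ _ (by rw [abs_lt]; omega))
          (zpowers_le.mpr (mem_centralizer_singleton_iff.mpr hzw.eq.symm))
      · have h1 : itv g x 1 b ≤ itv g x 1 ((b : ℤ) + 1) := itv_mono le_rfl (by omega)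
        have h3 := card_mul_index ((itv g x 1 b).subgroupOf (itv g x 1 ((b : ℤ) + 1)))
        rw [Nat.card_congr (subgroupOfEquivOfLe h1).toEquiv, card_itv hc (by omega) (by omega),
          card_itv hc (by omega) (by omega), show ((b : ℤ) + 1 - 1).toNat = ((b : ℤ) - 1).toNat + 1 by omega,
          pow_succ] at h3
        exact Nat.eq_of_mul_eq_mul_left (pow_pos hp.pos _) h3
    have h1 : Commute (gen g x b) z := mem_centralizer_singleton_iff.mp (hC (gen_mem_itv (by omega) (by omega)))
    have h2 := (commute_shift ((u : ℤ) - b) h1).symm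
    rw [show (b : ℤ) - u + (u - b) = 0 by ring, show (b : ℤ) + (u - b) = u by ring] at h2
    exact hnc h2
  -- the two ends overlap
  have hab : a ≤ b := by
    by_contra hlt
    push Not at hlt
    have ha1 : (1 : ℤ) ≤ a := by have := hPa.1; omega
    set A := itv g x 1 (a : ℤ)
    set B := itv g x (a : ℤ) (u : ℤ)
    set U := itv g x 1 (u : ℤ)
    have hU : ∀ s ∈ U, ∀ t ∈ U, s * t = t * s := by
      intro s hs t ht
      refine mem_centralizer_singleton_iff.mp (hitv (z := t) (fun k h1 h2 => ?_) hs)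
      exact Commute.symm (mem_centralizer_singleton_iff.mp
        (hitv (z := gen g x k) (fun l h3 h4 => hcomm _ _ (by rw [abs_lt]; omega)) ht) |>.symm)
    have hinf : w ∈ A ⊓ B := ⟨itv_mono le_rfl (by omega) hbmem, hPa.2⟩
    have hAU : A ≤ U := itv_mono le_rfl (by omega)
    have hBU : B ≤ U := itv_mono (by omega) le_rfl
    have hcard := card_itv hc (show (1 : ℤ) ≤ a from ha1) (by omega)
    have hcardB := card_itv hc (show (a : ℤ) ≤ u by omega) (by omega)
    have hcardU := card_itv hc (show (1 : ℤ) ≤ u by omega) (by omega)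
    have hidx : A.relIndex B = A.relIndex U := by
      have : (A.subgroupOf U).Normal := (normal_subgroupOf_iff hAU).mpr fun s t hs ht => by
        rw [← hU s (hAU hs) t ht, mul_inv_cancel_right]; exact hs
      have e : B.subgroupOf U ⊔ A.subgroupOf U = ⊤ := by
        rw [← subgroupOf_sup hBU hAU, sup_comm, itv_sup ha1 (by omega), subgroupOf_self]
      have h9 := Subgroup.relIndex_sup_right (H := B.subgroupOf U) (K := A.subgroupOf U)
      rw [e, relIndex_top_right, relIndex_subgroupOf hBU] at h9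
      exact h9.symm
    have h5 := Subgroup.relIndex_mul_relIndex ⊥ A U bot_le hAU
    rw [relIndex_bot_left, relIndex_bot_left, hcard, hcardU, ← hidx] at h5
    have h6 := Subgroup.relIndex_mul_relIndex ⊥ (A ⊓ B) B bot_le inf_le_right
    rw [relIndex_bot_left, relIndex_bot_left, inf_relIndex_right, hcardB] at h6
    rw [show ((u : ℤ) - 1).toNat = ((a : ℤ) - 1).toNat + ((u : ℤ) - a).toNat by omega, pow_add] at h5
    have h7 := Nat.eq_of_mul_eq_mul_left (pow_pos hp.pos _) h5
    rw [h7] at h6
    have h8 : Nat.card (A ⊓ B : Subgroup G) = 1 :=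
      Nat.eq_of_mul_eq_mul_right (pow_pos hp.pos _) (h6.trans (one_mul _).symm)
    rw [Subgroup.card_eq_one.mp h8] at hinf
    exact hw1 (mem_bot.mp hinf)
  omega

theorem two_mul_le_center {n : ℕ} (hP : P = itv g x 0 m)
    (hcard : ∀ k : ℕ, k ≤ m → Nat.card (itv g x 0 k) = p ^ k)
    {K : Subgroup G} (hK : K ≤ itv g x 0 (m + n : ℕ)) (h2 : P ⊓ (center K).map K.subtype = ⊥) (hPK : P ≤ K)
    {u : ℕ} (hum : u ≤ m) (hu0 : 0 < u) (hcomm : ∀ i j : ℤ, |i - j| < u → Commute (gen g x i) (gen g x j)) :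
    2 * u ≤ m + n := by
  by_contra hlt
  push Not at hlt
  set y := gen g x ((u - 1 : ℕ) : ℤ) with hy
  have hyP : y ∈ P := hP ▸ gen_mem_itv (by omega) (by omega)
  have hycent : y ∈ (center K).map K.subtype := by
    refine ⟨⟨y, hPK hyP⟩, mem_center_iff.mpr fun z => Subtype.ext ?_, rfl⟩
    have : itv g x 0 (m + n : ℕ) ≤ centralizer {y} := by
      rw [itv, closure_le]
      rintro _ ⟨k, ⟨h1, h2'⟩, rfl⟩
      exact mem_centralizer_singleton_iff.mpr (hcomm _ _ (by rw [abs_lt]; omega)).eq
    exact mem_centralizer_singleton_iff.mp (this (hK z.2))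
  have hy1 : y = 1 := mem_bot.mp (h2 ▸ (⟨hyP, hycent⟩ : y ∈ P ⊓ (center K).map K.subtype))
  have hcy : Nat.card (itv g x ((u - 1 : ℕ) : ℤ) (((u - 1 : ℕ) : ℤ) + 1)) = 1 := by
    rw [Subgroup.card_eq_one, itv, closure_eq_bot_iff]
    rintro _ ⟨k, ⟨h1, h2'⟩, rfl⟩
    rw [show k = ((u - 1 : ℕ) : ℤ) by omega]
    exact hy1
  rw [card_itv hcard (by omega) (by omega), show (((u - 1 : ℕ) : ℤ) + 1 - ((u - 1 : ℕ) : ℤ)).toNat = 1 by omega, pow_one] at hcy
  exact (Fact.out : p.Prime).ne_one hcy

end Comm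

theorem order_bound (h : Data P g p) {n : ℕ} (hn : 1 ≤ n) {K : Subgroup G}
    (hK : K = ⨆ i ∈ Finset.range (n + 1), MulAut.conj (g ^ i)⁻¹ • P)
    (h2 : P ⊓ (center K).map K.subtype = ⊥) :
    ∃ t : ℕ, Nat.card P = p ^ t ∧ 1 ≤ t ∧ t ≤ 3 * n ∧ t ≠ 3 * n - 1 := by
  classical
  have : Fact p.Prime := ⟨h.prime⟩
  obtain ⟨x, m, hm1, hP, hcard⟩ := exists_generators h
  refine ⟨m, by rw [hP]; exact hcard m le_rfl, hm1, ?_⟩
  have hKle : K ≤ itv g x 0 (m + n : ℕ) := by
    rw [hK]
    refine iSup₂_le fun i hi => ?_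
    rw [Finset.mem_range] at hi
    show P.map (MulAut.conj (g ^ i)⁻¹).toMonoidHom ≤ _
    rw [hP, itv, MonoidHom.map_closure, closure_le]
    rintro _ ⟨_, ⟨k, ⟨h1, h2'⟩, rfl⟩, rfl⟩
    refine subset_closure ⟨k + i, ⟨by omega, by omega⟩, ?_⟩
    simp only [gen, MulEquiv.coe_toMonoidHom, MulAut.conj_apply, inv_inv, ← zpow_natCast g i]
    group
  have hPK : P ≤ K := by
    rw [hK]
    refine le_trans ?_ (le_iSup₂ (f := fun i _ => MulAut.conj (g ^ i)⁻¹ • P) 0 (Finset.mem_range.mpr (Nat.succ_pos n)))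
    simp
  have hex : ∃ k : ℕ, k = m ∨ ¬ Commute (gen g x 0) (gen g x k) := ⟨m, Or.inl rfl⟩
  set u := Nat.find hex with hu
  have hum : u ≤ m := Nat.find_le (Or.inl rfl)
  have hu0 : 0 < u := by
    rw [Nat.pos_iff_ne_zero]
    intro e
    rcases Nat.find_spec hex with h' | h'
    · omega
    · rw [← hu, e, Nat.cast_zero] at h'; exact h' (Commute.refl _)
  have hbase : ∀ k : ℕ, k < u → Commute (gen g x 0) (gen g x k) := fun k hk => by
    have := Nat.find_min hex hk
    push Not at this
    exact this.2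
  have hcomm : ∀ i j : ℤ, |i - j| < u → Commute (gen g x i) (gen g x j) := by
    intro i j hij
    rw [abs_lt] at hij
    rcases le_total i j with hle | hle
    · have := commute_shift i (hbase (j - i).toNat (by omega))
      rwa [zero_add, Int.toNat_of_nonneg (by omega), sub_add_cancel] at this
    · have := commute_shift j (hbase (i - j).toNat (by omega))
      rw [zero_add, Int.toNat_of_nonneg (by omega), sub_add_cancel] at this
      exact this.symm
  have hcen := two_mul_le_center hP hcard hKle h2 hPK hum hu0 hcomm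
  have hkey : 2 * m ≤ 3 * u := by
    rcases eq_or_lt_of_le hum with e | hlt
    · omega
    · refine two_mul_le hcard hlt hcomm ?_
      rcases Nat.find_spec hex with h' | h'
      · omega
      · exact h'
  omega

end CfsgLib.SimsInterval
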